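import Cfsg.Agent.SporB.ON.Base
import Cfsg.Agent.SporB.ON.Rep.CheckOrbs
import Cfsg.Agent.SporB.ON.Q.Cert

/-!
The presented O'Nan group is simple.
-/

set_option autoImplicit false
set_option maxRecDepth 100000

namespace Cfsg.Agent.CosetEnum.ON

theorem orb_ok (i : Pt) : Rep.olab i < 5 ∧
    (∀ l ∈ selH, Rep.olab (Rep.act i l) = Rep.olab i) ∧
    ((i : ℕ) = Rep.roots.getD (Rep.olab i) 0 ∨
      ∃ l ∈ selH, Rep.orank (Rep.act i l) < Rep.orank i) := by
  have h := Rep.checkOrbs i i.2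
  simp only [Rep.checkOrb, forceNat_eq, Bool.and_eq_true, Bool.or_eq_true, List.all_eq_true,
    List.any_eq_true] at h
  refine ⟨Nat.le_of_ble_eq_true h.1.1, fun l hl => Nat.eq_of_beq_eq_true (h.1.2 l hl), ?_⟩
  rcases h.2 with h2 | ⟨l, hl, h2⟩
  · exact Or.inl (Nat.eq_of_beq_eq_true h2)
  · exact Or.inr ⟨l, hl, Nat.le_of_ble_eq_true h2⟩

theorem selH_lt : ∀ l ∈ selH, l < 8 := by decide

theorem to_root : ∀ (m : ℕ) (i : Pt), Rep.orank i = m →
    ∃ h ∈ H, ((hom h i : Pt) : ℕ) = Rep.roots.getD (Rep.olab i) 0 := by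
  intro m
  induction m using Nat.strong_induction_on with
  | _ m ih =>
    intro i hi
    obtain ⟨-, hlab, h | ⟨l, hl, hlt⟩⟩ := orb_ok i
    · exact ⟨1, one_mem H, by rw [map_one]; exact h⟩
    · have h8 := selH_lt l hl
      have hj : ((perm l i : Pt) : ℕ) = Rep.act i l := perm_apply h8 i
      obtain ⟨h, hh, he⟩ := ih (Rep.orank (perm l i : Pt)) (by rw [hj, ← hi]; exact hlt) (perm l i) rfl
      refine ⟨h * (val l)⁻¹, mul_mem hh (inv_mem (Subgroup.subset_closure (List.mem_map_of_mem hl))), ?_⟩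
      rw [map_mul, map_inv, Equiv.Perm.mul_apply, hom_val h8, inv_inv, he, hj, hlab l hl]

theorem same_orbit {i j : Pt} (h : Rep.olab i = Rep.olab j) : ∃ k ∈ H, hom k i = j := by
  obtain ⟨a, ha, hai⟩ := to_root _ i rfl
  obtain ⟨b, hb, hbj⟩ := to_root _ j rfl
  refine ⟨b⁻¹ * a, mul_mem (inv_mem hb) ha, ?_⟩
  rw [map_mul, map_inv, Equiv.Perm.mul_apply, Equiv.Perm.inv_eq_iff_eq]
  apply Fin.ext
  rw [hai, hbj, h]

theorem div_ok : ∀ A ∈ (Finset.range 5).powerset, 0 ∈ A →
    (∑ c ∈ A, [1, 58653, 52136, 5586, 6384].getD c 0) ∣ 122760 →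
    A = {0} ∨ A = Finset.range 5 := by
  decide +kernel

theorem lab_zero {i : Pt} (h : Rep.olab i = 0) : i = 0 := by
  have hone : {j : Pt | Nat.beq (Rep.olab j) 0 = true}.ncard ≤ 1 := by
    rw [ncard_fin_filter 122760 (fun j => Nat.beq (Rep.olab j) 0), Rep.size0]
  refine (Set.ncard_le_one (Set.toFinite _)).mp hone _ ?_ _ ?_
  · show Nat.beq (Rep.olab i) 0 = true
    rw [h]; rfl
  · show Nat.beq (Rep.olab (0 : ℕ)) 0 = true
    decide +kernel

theorem maximal (L : Subgroup Gp) (hL : H ≤ L) : L = H ∨ L = ⊤ := by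
  classical
  let S : Finset Pt := Finset.univ.filter fun i => ∃ k ∈ L, hom k 0 = i
  have hmem : ∀ g, hom g 0 ∈ S ↔ g ∈ L := by
    intro g
    simp only [S, Finset.mem_filter, Finset.mem_univ, true_and]
    refine ⟨?_, fun hg => ⟨g, hg, rfl⟩⟩
    rintro ⟨k, hk, hkg⟩
    have : k⁻¹ * g ∈ H := by
      rw [H_stab.1, mem_stab, map_mul, map_inv, Equiv.Perm.mul_apply, Equiv.Perm.inv_eq_iff_eq]
      exact hkg.symm
    simpa using mul_mem hk (hL this)
  have hconst : ∀ i j : Pt, Rep.olab i = Rep.olab j → i ∈ S → j ∈ S := by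
    intro i j hij hi
    simp only [S, Finset.mem_filter, Finset.mem_univ, true_and] at hi ⊢
    obtain ⟨k, hk, hki⟩ := hi
    obtain ⟨h, hh, hhi⟩ := same_orbit hij
    exact ⟨h * k, mul_mem (hL hh) hk, by rw [map_mul, Equiv.Perm.mul_apply, hki, hhi]⟩
  let A : Finset ℕ := (Finset.range 5).filter fun c => ∃ i ∈ S, Rep.olab i = c
  have hSA : ∀ i : Pt, i ∈ S ↔ Rep.olab i ∈ A := by
    intro i
    simp only [A, Finset.mem_filter, Finset.mem_range]
    refine ⟨fun h => ⟨(orb_ok i).1, i, h, rfl⟩, ?_⟩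
    rintro ⟨-, j, hj, hji⟩
    exact hconst j i hji hj
  have h0A : 0 ∈ A := by
    have h0 : Rep.olab ((0 : Pt) : ℕ) = 0 :=
      Nat.eq_of_beq_eq_true (show Nat.beq (Rep.olab (0 : ℕ)) 0 = true by decide +kernel)
    rw [← h0, ← hSA]
    simp only [S, Finset.mem_filter, Finset.mem_univ, true_and]
    exact ⟨1, one_mem L, by rw [map_one]; rfl⟩
  have hsz : ∀ c ∈ A, (Finset.univ.filter fun i : Pt => Rep.olab i = c).card =
      [1, 58653, 52136, 5586, 6384].getD c 0 := by
    intro c hc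
    have hc5 : c < 5 := Finset.mem_range.mp (Finset.mem_filter.mp hc).1
    have e : (Finset.univ.filter fun i : Pt => Rep.olab i = c).card =
        countBelow (fun i => Nat.beq (Rep.olab i) c) 122760 := by
      rw [← ncard_fin_filter 122760 (fun i => Nat.beq (Rep.olab i) c), ← Set.ncard_coe_finset]
      congr 1
      ext i
      simp only [Finset.coe_filter, Finset.mem_univ, true_and]
      exact ⟨fun h => h ▸ Nat.beq_refl _, Nat.eq_of_beq_eq_true⟩
    rw [e]
    interval_cases c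
    exacts [Rep.size0, Rep.size1, Rep.size2, Rep.size3, Rep.size4]
  have hcard : S.card = ∑ c ∈ A, [1, 58653, 52136, 5586, 6384].getD c 0 := by
    rw [Finset.card_eq_sum_card_fiberwise (f := fun i : Pt => Rep.olab i) (t := A)
      (fun i hi => (hSA i).mp (Finset.mem_coe.mp hi)), ← Finset.sum_congr rfl hsz]
    refine Finset.sum_congr rfl fun c hc => congrArg Finset.card ?_
    ext i
    simp only [Finset.mem_filter, Finset.mem_univ, true_and, hSA]
    exact ⟨fun h => h.2, fun h => ⟨h ▸ hc, h⟩⟩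
  have hdvd : S.card ∣ 122760 := by
    letI : MulAction Gp Pt := MulAction.compHom _ hom
    have horb : (S : Set Pt) = MulAction.orbit L (0 : Pt) := by
      ext i
      simp only [S, Finset.coe_filter, Finset.mem_univ, true_and, Set.mem_ofPred_eq]
      exact ⟨fun ⟨k, hk, h⟩ => ⟨⟨k, hk⟩, h⟩, fun ⟨k, h⟩ => ⟨k, k.2, h⟩⟩
    have hst : MulAction.stabilizer L (0 : Pt) = stab.subgroupOf L := rfl
    rw [← Set.ncard_coe_finset, horb, ← MulAction.index_stabilizer, hst, ← index_stab,
      ← Subgroup.relIndex_mul_index (H_stab.1 ▸ hL : stab ≤ L)]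
    exact dvd_mul_right _ _
  rw [hcard] at hdvd
  rcases div_ok A (Finset.mem_powerset.mpr (Finset.filter_subset _ _)) h0A hdvd with hA | hA
  · left
    refine le_antisymm (fun g hg => ?_) hL
    have hg' := (hmem g).mpr hg
    rw [hSA, hA, Finset.mem_singleton] at hg'
    rw [H_stab.1, mem_stab]
    exact lab_zero hg'
  · right
    rw [eq_top_iff]
    intro g _
    rw [← hmem, hSA, hA, Finset.mem_range]
    exact (orb_ok _).1

theorem simple : IsSimpleGroup Gp := by
  haveI := finite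
  haveI : Nontrivial Gp := by
    rw [← Finite.one_lt_card_iff_nontrivial, card_eq]
    norm_num
  refine ⟨fun N hN => ?_⟩
  rcases eq_or_ne N ⊥ with hb | hb
  · exact Or.inl hb
  right
  have hNH : ¬ N ≤ H := by
    intro hle
    apply hb
    rw [eq_bot_iff]
    intro n hn
    rw [Subgroup.mem_bot]
    apply card_H.2
    rw [map_one]
    apply Equiv.ext
    intro i
    obtain ⟨g, hg⟩ := transitive i
    have h1 : g⁻¹ * n * g ∈ H := hle (by simpa using hN.conj_mem n hn g⁻¹)
    rw [H_stab.1, mem_stab, map_mul, map_mul, map_inv, Equiv.Perm.mul_apply, Equiv.Perm.mul_apply,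
      hg, Equiv.Perm.inv_eq_iff_eq] at h1
    rw [h1, hg]
    rfl
  have hsup : N ⊔ H = ⊤ := (maximal _ le_sup_right).resolve_left (fun h => hNH (h ▸ le_sup_left))
  let π : Gp →* Gp ⧸ N := QuotientGroup.mk' N
  have hsurj : (π.comp H.subtype).range = ⊤ := by
    rw [MonoidHom.range_comp, Subgroup.range_subtype]
    have h := Subgroup.map_sup N H π
    rw [hsup, Subgroup.map_top_of_surjective π (QuotientGroup.mk'_surjective N),
      (Subgroup.map_eq_bot_iff _).mpr (QuotientGroup.ker_mk' N).ge, bot_sup_eq] at h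
    exact h.symm
  have hdvd : Nat.card (Gp ⧸ N) ∣ 3753792 := by
    have h := Subgroup.card_range_dvd (π.comp H.subtype)
    rwa [hsurj, Subgroup.card_top, card_H.1] at h
  have hy : π (evalWord val [3, 4, 5, 0]) = 1 := by
    rw [← orderOf_eq_one_iff]
    have h5 : orderOf (π (evalWord val [3, 4, 5, 0])) ∣ 5 := by
      apply orderOf_dvd_of_pow_eq_one
      rw [← map_pow, ← evalWord_repWord val [3, 4, 5, 0] 5]
      rw [rel_one _ (by decide +kernel : repWord [3, 4, 5, 0] 5 ∈ relsAll), map_one]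
    have hq : orderOf (π (evalWord val [3, 4, 5, 0])) ∣ 3753792 := (orderOf_dvd_natCard _).trans hdvd
    exact Nat.eq_one_of_dvd_coprimes (by norm_num : Nat.Coprime 5 3753792) h5 hq
  have hL : Letters Q.sys (fun l => π (val l)) := letters rfl Q.invs_eq π
  have hrel : ∀ W ∈ Q.rels, evalWord (fun l => π (val l)) W = 1 := by
    intro W hW
    rw [← Glue.evalWord_hom π val W]
    rcases (by decide +kernel : ∀ W ∈ Q.rels, W ∈ relsAll ∨ W = [3, 4, 5, 0]) W hW with h | rfl
    · rw [rel_one W h, map_one]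
    · exact hy
  have h := Q.cert.relIndex_le hL (H := ⊤) (K := ⊥)
    (by
      rw [show Q.sys.nl = 8 from rfl, show (fun l => π (val l)) '' Set.Iio 8 = π '' (val '' Set.Iio 8)
        from (Set.image_image π val _).symm, ← MonoidHom.map_closure, closure_val,
        Subgroup.map_top_of_surjective π (QuotientGroup.mk'_surjective N)])
    (fun i => hL.valid (subs := Q.subs) hrel
      (fun W hW => absurd hW (List.not_mem_nil (a := W))) (DTree.all_get Q.rules_ok i))
  rw [Subgroup.relIndex_top_right, Subgroup.index_bot] at h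
  have h1 : Nat.card (Gp ⧸ N) = 1 := by omega
  exact Subgroup.index_eq_one.mp h1

end Cfsg.Agent.CosetEnum.ON
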