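import Cfsg.Prelude.Def_Sporadic
import Cfsg.Agent.SporB.ON.Main
import Cfsg.Agent.SporB.ON.Sub.Main

/-!
The permutation realisation of the O'Nan group.
-/

set_option autoImplicit false
set_option maxRecDepth 100000

namespace Cfsg.Agent.CosetEnum.ON

theorem realize (hJ : ∃ K : Subgroup Gp, IsSimpleGroup K ∧ Nat.card K = 175560)
    (hM : ∃ K : Subgroup Gp, IsSimpleGroup K ∧ Nat.card K = 7920) :
    ∃ H' : Subgroup (Equiv.Perm (Fin 122760)), Cfsg.IsON H' ∧
      MulAction.IsPretransitive H' (Fin 122760) ∧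
      Nat.card (MulAction.stabilizer H' (0 : Fin 122760)) = 3753792 ∧
      (∃ K : Subgroup H', Cfsg.IsJ1 K) ∧ (∃ K : Subgroup H', Cfsg.IsM11 K) := by
  haveI := finite
  let e : Gp ≃* hom.range := MonoidHom.ofInjective card_H.2
  have hK : ∀ (n : ℕ) (K : Subgroup Gp), IsSimpleGroup K → Nat.card K = n →
      IsSimpleGroup (K.map e.toMonoidHom) ∧ Nat.card (K.map e.toMonoidHom) = n := by
    intro n K hs hc
    let f : K ≃* K.map e.toMonoidHom := e.subgroupMap K
    exact ⟨@MulEquiv.isSimpleGroup _ _ _ _ hs f.symm, by rw [← Nat.card_congr f.toEquiv, hc]⟩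
  refine ⟨hom.range, ⟨@MulEquiv.isSimpleGroup _ _ _ _ simple e.symm,
    by rw [← Nat.card_congr e.toEquiv, card_eq]⟩, ?_, ?_, ?_, ?_⟩
  · constructor
    intro x y
    obtain ⟨g, hg⟩ := transitive x
    obtain ⟨k, hk⟩ := transitive y
    refine ⟨⟨hom (k * g⁻¹), _, rfl⟩, ?_⟩
    show hom (k * g⁻¹) x = y
    rw [map_mul, map_inv, Equiv.Perm.mul_apply, ← hg, ← hk]
    exact congrArg (hom k) (Equiv.symm_apply_apply (hom g) 0)
  · have h1 : (MulAction.stabilizer hom.range (0 : Fin 122760)) = H.map e.toMonoidHom := by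
      ext x
      obtain ⟨g, rfl⟩ := e.surjective x
      show _ ↔ e.toMonoidHom g ∈ H.map e.toMonoidHom
      rw [MulAction.mem_stabilizer_iff, Subgroup.mem_map_iff_mem (f := e.toMonoidHom) e.injective,
        H_stab.1, mem_stab]
      rfl
    let f : H ≃* H.map e.toMonoidHom := e.subgroupMap H
    rw [h1, ← Nat.card_congr f.toEquiv, card_H.1]
  · obtain ⟨K, hs, hc⟩ := hJ
    exact ⟨_, hK _ K hs hc⟩
  · obtain ⟨K, hs, hc⟩ := hM
    exact ⟨_, hK _ K hs hc⟩

end Cfsg.Agent.CosetEnum.ON
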