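import Cfsg.Agent.SporB.ON.Base

set_option autoImplicit false
set_option maxRecDepth 100000

namespace Cfsg.Agent.CosetEnum.ON

theorem H_eq : (Subgroup.closure ({Cfsg.Spor.ON.a, Cfsg.Spor.ON.b, Cfsg.Spor.ON.c, Cfsg.Spor.ON.d, Cfsg.Spor.ON.e, Cfsg.Spor.ON.f} : Set (FreeGroup Cfsg.Spor.ON.Gen))).map (PresentedGroup.mk (Cfsg.Spor.coxRelators Cfsg.Spor.ON.edges ∪ {r | r ∈ Cfsg.Spor.ON.extra})) = H := by
  rw [MonoidHom.map_closure, H, Glue.gsub]
  simp only [Set.image_insert_eq, Set.image_singleton]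
  apply congrArg Subgroup.closure
  ext g
  show _ ↔ g ∈ [val 2, val 3, val 4, val 5, val 6, val 7]
  simp only [Set.mem_insert_iff, Set.mem_singleton_iff]
  erw [List.mem_cons, List.mem_cons, List.mem_cons, List.mem_cons, List.mem_cons, List.mem_singleton]
  rfl

end Cfsg.Agent.CosetEnum.ON
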